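import Groth.Agent.Lib.Hens.EtaleLift
import Groth.Agent.Lib.SmoothLiftH7.Apps

/-! Finite étale algebras modulo an ideal lift to finite étale algebras over an étale neighbourhood. -/

set_option autoImplicit false
set_option linter.style.haveILetI false
universe u

open TensorProduct

namespace Groth.Agent.FinEtLiftH7

open Groth.Agent.Hens

/-- An approximate idempotent inside a finite subalgebra of an étale algebra which is finite modulo `I`. -/
theorem exists_approx {A : Type u} [CommRing A] {I : Ideal A} {E : Type u} [CommRing E] [Algebra A E]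
    [Algebra.Etale A E] {C : Type u} [CommRing C] [Algebra A C] [Module.Finite A C]
    (φ : E →ₐ[A] C) (hker : RingHom.ker φ = I.map (algebraMap A E)) :
    ∃ (B : Subalgebra A E) (_ : Module.Finite A B) (G : Finset B) (b : B),
      (∀ g ∈ G, ∀ y : E, ∃ (n : ℕ) (c : B), (g : E) ^ n * y = (c : E)) ∧
      b * b - b ∈ I.map (algebraMap A B) ∧ φ (b : E) = 1 ∧ b ∈ Ideal.span (G : Set B) := by
  classical
  obtain ⟨B, hB, G, hG, hspan⟩ := exists_finite_cover_of_etale (A := A) (E := E)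
  have hInt : Algebra.IsIntegral A B := Algebra.IsIntegral.of_finite A B
  have hpow : ∀ g ∈ G, ∀ y : E, ∃ (n : ℕ) (b : B), (g : E) ^ n * y = (b : E) := fun g hg y => by
    obtain ⟨n, b, hb⟩ := exists_pow_mul_mem_of_bijective_awayMap B.val.toRingHom g (hG g hg).2 y
    exact ⟨n, b, hb⟩
  have hkill : ∀ g ∈ G, ∀ x : B, φ x = 0 → ∃ n : ℕ, g ^ n * x ∈ I.map (algebraMap A B) := by
    intro g hg x hx
    have key : ∀ y ∈ I.map (algebraMap A E), ∀ z : E, ∃ (n : ℕ) (b : B),
        b ∈ I.map (algebraMap A B) ∧ (g : E) ^ n * (z * y) = (b : E) := by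
      intro y hy
      induction hy using Submodule.span_induction with
      | mem y hy =>
        obtain ⟨a, ha, rfl⟩ := hy
        intro z
        obtain ⟨n, b, hb⟩ := hpow g hg z
        refine ⟨n, b * algebraMap A B a, Ideal.mul_mem_left _ _ (Ideal.mem_map_of_mem _ ha), ?_⟩
        rw [← mul_assoc, hb]
        rfl
      | zero => intro z; exact ⟨0, 0, zero_mem _, by simp⟩
      | add a b _ _ ha hb =>
        intro z
        obtain ⟨n, c, hc, hc'⟩ := ha z
        obtain ⟨m, d, hd, hd'⟩ := hb z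
        refine ⟨n + m, g ^ m * c + g ^ n * d,
          add_mem (Ideal.mul_mem_left _ _ hc) (Ideal.mul_mem_left _ _ hd), ?_⟩
        show _ = (g : E) ^ m * (c : E) + (g : E) ^ n * (d : E)
        rw [← hc', ← hd']
        ring
      | smul c a _ ha =>
        intro z
        obtain ⟨n, d, hd, hd'⟩ := ha (z * c)
        exact ⟨n, d, hd, by rw [smul_eq_mul, ← mul_assoc z c a]; exact hd'⟩
    obtain ⟨n, b, hb, hb'⟩ := key x (hker.le hx) 1
    rw [one_mul] at hb'
    exact ⟨n, (show g ^ n * x = b from Subtype.ext hb') ▸ hb⟩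
  let J : Ideal B := I.map (algebraMap A B)
  let K : Ideal B := RingHom.ker (φ.comp B.val)
  have htop : K ⊔ Ideal.span (G : Set B) = ⊤ := by
    by_contra hne
    obtain ⟨M, hM, hle⟩ := Ideal.exists_le_maximal _ hne
    let φ' : B →+* C := (φ.comp B.val).toRingHom
    have hint : φ'.IsIntegral :=
      RingHom.IsIntegral.tower_top (algebraMap A B) φ'
        (by rw [show φ'.comp (algebraMap A B) = algebraMap A C from (φ.comp B.val).comp_algebraMap]
            exact algebraMap_isIntegral_iff.mpr (Algebra.IsIntegral.of_finite A C))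
    let _ := φ'.toAlgebra
    have : Algebra.IsIntegral B C := ⟨fun c => hint c⟩
    obtain ⟨Q, hQ, hQM⟩ := Ideal.exists_ideal_over_prime_of_isIntegral M ⊥
      (le_trans (fun x hx => by exact hx) (le_sup_left.trans hle))
    have hall : ∀ g ∈ G, φ (g : E) ∈ Q := fun g hg => by
      have : g ∈ M := hle (Ideal.mem_sup_right (Ideal.subset_span hg))
      rw [← hQM.2] at this
      exact this
    refine hQM.1.ne_top ((Ideal.eq_top_iff_one Q).mpr ?_)
    have h1 : (1 : E) ∈ Ideal.span ((fun g : B => (g : E)) '' G) := hspan ▸ Submodule.mem_top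
    have h2 := Ideal.mem_map_of_mem φ.toRingHom h1
    rw [Ideal.map_span, ← Set.image_comp, map_one] at h2
    refine Ideal.span_le.mpr ?_ h2
    rintro _ ⟨g, hg, rfl⟩
    exact hall g hg
  obtain ⟨k₀, hk₀, b₀, hb₀, hkb₀⟩ := Submodule.mem_sup.mp (htop ▸ Submodule.mem_top (x := (1 : B)))
  choose! n hn using fun g (hg : g ∈ G) => hkill g hg k₀ hk₀
  let L : Ideal B := Ideal.span ((fun g => g ^ n g) '' (G : Set B))
  obtain ⟨m', hm'⟩ : b₀ ∈ L.radical := (Ideal.span_le (I := L.radical)).mpr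
    (fun g hg => Ideal.mem_radical_iff.mpr ⟨n g, Ideal.subset_span ⟨g, hg, rfl⟩⟩) hb₀
  let m := m' + 1
  have hm : b₀ ^ m ∈ L := by rw [pow_succ]; exact Ideal.mul_mem_right _ _ hm'
  have hL : ∀ x ∈ L, x * k₀ ∈ J := fun x hx => by
    refine Submodule.span_induction ?_ (by simp) (fun a b _ _ ha hb => ?_)
      (fun c a _ ha => ?_) hx
    · rintro _ ⟨g, hg, rfl⟩; exact hn g hg
    · rw [add_mul]; exact add_mem ha hb
    · rw [smul_eq_mul, mul_assoc]; exact Ideal.mul_mem_left _ _ ha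
  obtain ⟨c, hc⟩ : (1 - b₀) ∣ 1 - b₀ ^ m := by simpa using sub_dvd_pow_sub_pow 1 b₀ m
  let b := b₀ ^ m
  have hb : b ∈ L := hm
  have hk₀' : 1 - b₀ = k₀ := by rw [← hkb₀, add_sub_cancel_right]
  obtain ⟨k, hk, hkb⟩ : ∃ k ∈ K, k + b = 1 :=
    ⟨k₀ * c, Ideal.mul_mem_right _ _ hk₀, by rw [← hk₀', ← hc, sub_add_cancel]⟩
  have hbb : b * b - b ∈ J := by
    have : b * b - b = - ((b * k₀) * c) := by
      rw [mul_assoc, ← hk₀', ← hc]; ring
    rw [this]
    exact neg_mem (Ideal.mul_mem_right _ _ (hL b hb))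
  refine ⟨B, hB, G, b, hpow, hbb, ?_, Ideal.pow_mem_of_mem _ hb₀ m (Nat.succ_pos _)⟩
  have h2 : φ (k : E) + φ (b : E) = 1 := by
    rw [← map_add, ← map_one φ]
    exact congrArg (fun x : B => φ (x : E)) hkb
  rwa [show φ (k : E) = 0 from hk, zero_add] at h2

/-- Points of an algebra modulo `I`. -/
theorem exists_point {A A' : Type u} [CommRing A] [CommRing A'] [Algebra A A'] (I : Ideal A)
    (h : Function.Bijective (Ideal.quotientMap (I.map (algebraMap A A')) (algebraMap A A') Ideal.le_comap_map)) :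
    ∃ ψ : A' →ₐ[A] A ⧸ I, RingHom.ker ψ = I.map (algebraMap A A') ∧
      ∀ x, ∃ a, x - algebraMap A A' a ∈ I.map (algebraMap A A') := by
  let e := RingEquiv.ofBijective _ h
  let ψ : A' →ₐ[A] A ⧸ I :=
    { e.symm.toRingHom.comp (Ideal.Quotient.mk _) with
      commutes' := fun a => by
        show e.symm (Ideal.Quotient.mk _ (algebraMap A A' a)) = Ideal.Quotient.mk I a
        rw [RingEquiv.symm_apply_eq]
        rfl }
  refine ⟨ψ, ?_, fun x => ?_⟩
  · ext x
    rw [RingHom.mem_ker, ← Ideal.Quotient.eq_zero_iff_mem]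
    show e.symm (Ideal.Quotient.mk _ x) = 0 ↔ _
    exact e.symm.map_eq_zero_iff
  · obtain ⟨y, hy⟩ := h.2 (Ideal.Quotient.mk _ x)
    obtain ⟨a, rfl⟩ := Ideal.Quotient.mk_surjective y
    refine ⟨a, Ideal.Quotient.eq.1 ?_⟩
    rw [← hy]
    rfl

set_option maxHeartbeats 2000000 in
/-- Finite étale algebras lift to finite étale algebras over an étale neighbourhood. -/
theorem exists_lift {A : Type u} [CommRing A] (I : Ideal A) (C : Type u) [CommRing C] [Algebra A C]
    [Algebra (A ⧸ I) C] [IsScalarTower A (A ⧸ I) C] [Module.Finite (A ⧸ I) C] [Algebra.Etale (A ⧸ I) C] :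
    ∃ (A₂ : Type u) (_ : CommRing A₂) (_ : Algebra A A₂), Algebra.Etale A A₂ ∧
      ∃ ψ : A₂ →ₐ[A] A ⧸ I, RingHom.ker ψ = I.map (algebraMap A A₂) ∧
      ∃ (B : Type u) (_ : CommRing B) (_ : Algebra A B) (_ : Algebra A₂ B) (_ : IsScalarTower A A₂ B)
        (φ : B →ₐ[A] C), Module.Finite A₂ B ∧ Algebra.Etale A₂ B ∧ Function.Surjective φ ∧
          RingHom.ker φ = I.map (algebraMap A B) ∧ ∀ a, φ (algebraMap A₂ B a) = algebraMap (A ⧸ I) C (ψ a) := by
  classical
  haveI : Module.Finite A C := Module.Finite.trans (A ⧸ I) C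
  obtain ⟨E, _, _, _, φ₀, hφ₀, hker⟩ := exists_etale_lift A I C
  obtain ⟨B, hB, G, b, hpow, hbb, hφb, hbG⟩ := exists_approx φ₀ hker
  haveI : Algebra.IsIntegral A B := Algebra.IsIntegral.of_finite A B
  have he0 : IsIdempotentElem (Ideal.Quotient.mk (I.map (algebraMap A B)) b) := by
    rw [IsIdempotentElem, ← map_mul]
    exact Ideal.Quotient.eq.2 hbb
  obtain ⟨A', _, _, _, hbij, e, he, heb⟩ := SmoothLiftH7.exists_etale_lift_idempotent_integral I _ he0
  have heb := heb b rfl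
  obtain ⟨ψ', hψ', hA'⟩ := exists_point I hbij
  let ι : A' ⊗[A] B →ₐ[A'] A' ⊗[A] E := Algebra.TensorProduct.map (AlgHom.id A' A') B.val
  have hgy : ∀ g ∈ G, ∀ y : A' ⊗[A] E, ∃ (n : ℕ) (c : A' ⊗[A] B), ι ((1 : A') ⊗ₜ g) ^ n * y = ι c := by
    intro g hg y
    induction y using TensorProduct.induction_on with
    | zero => exact ⟨0, 0, by simp⟩
    | tmul a y =>
      obtain ⟨n, c, hc⟩ := hpow g hg y
      exact ⟨n, a ⊗ₜ c, by simp [ι, Algebra.TensorProduct.tmul_pow, hc]⟩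
    | add y z hy hz =>
      obtain ⟨n, c, hc⟩ := hy
      obtain ⟨m, d, hd⟩ := hz
      refine ⟨n + m, ((1 : A') ⊗ₜ g) ^ m * c + ((1 : A') ⊗ₜ g) ^ n * d, ?_⟩
      rw [map_add, map_mul, map_mul, map_pow, map_pow, ← hc, ← hd]
      ring
  -- an element congruent to one which makes the factor finite
  let Q : Ideal (A' ⊗[A] B) := Ideal.span ((fun g : B => (1 : A') ⊗ₜ g) '' G) ⊔ Ideal.span {1 - e}
  have hbQ : (1 : A') ⊗ₜ b ∈ Q := by
    have := Ideal.mem_map_of_mem (Algebra.TensorProduct.includeRight : B →ₐ[A] A' ⊗[A] B).toRingHom hbG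
    rw [Ideal.map_span] at this
    exact Ideal.mem_sup_left this
  haveI : Algebra.IsIntegral A' (A' ⊗[A] B) := Algebra.IsIntegral.of_finite _ _
  have hQ : Q.comap (algebraMap A' (A' ⊗[A] B)) ⊔ I.map (algebraMap A A') = ⊤ := by
    by_contra hne
    obtain ⟨M, hM, hle⟩ := Ideal.exists_le_maximal _ hne
    obtain ⟨P, hQP, hP, hPM⟩ := Ideal.exists_ideal_over_prime_of_isIntegral M Q (le_sup_left.trans hle)
    have hIP : I.map (algebraMap A (A' ⊗[A] B)) ≤ P := by
      rw [IsScalarTower.algebraMap_eq A A' (A' ⊗[A] B), ← Ideal.map_map, Ideal.map_le_iff_le_comap]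
      exact (le_sup_right.trans hle).trans hPM.ge
    refine hP.ne_top ((Ideal.eq_top_iff_one _).2 ?_)
    have h1 := add_mem (add_mem (hQP (Ideal.mem_sup_right (Ideal.subset_span rfl) : (1 - e) ∈ Q)) (hIP heb))
      (hQP hbQ)
    simpa using h1
  obtain ⟨a, haQ, j, hj, haj⟩ := Submodule.mem_sup.1 (hQ ▸ Submodule.mem_top (x := (1 : A')))
  -- the factor
  let Ē := (A' ⊗[A] E) ⧸ Ideal.span {1 - ι e}
  haveI : IsLocalization.Away (ι e) Ē := IsLocalization.Away.quotient_of_isIdempotentElem (he.map ι)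
  haveI : Algebra.Etale (A' ⊗[A] E) Ē := Algebra.Etale.of_isLocalizationAway (ι e)
  haveI : Algebra.Etale A' Ē := Algebra.Etale.comp A' (A' ⊗[A] E) Ē
  let q : A' ⊗[A] B →ₐ[A'] Ē := (Ideal.Quotient.mkₐ A' _).comp ι
  have hq1 : q (1 - e) = 0 := Ideal.Quotient.eq_zero_iff_mem.2 (Ideal.subset_span (by simp))
  let Cd : Ē → Ideal (A' ⊗[A] B) := fun y =>
    { carrier := {c | ∃ d, q d = q c * y}
      add_mem' := fun ⟨d, hd⟩ ⟨d', hd'⟩ => ⟨d + d', by rw [map_add, map_add, hd, hd', add_mul]⟩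
      zero_mem' := ⟨0, by simp⟩
      smul_mem' := fun c x ⟨d, hd⟩ => ⟨c * d, by rw [smul_eq_mul, map_mul, map_mul, hd, mul_assoc]⟩ }
  have hCd : ∀ y, Q ≤ (Cd y).radical := fun y => by
    refine sup_le (Ideal.span_le.2 ?_) (Ideal.span_le.2 ?_)
    · rintro _ ⟨g, hg, rfl⟩
      obtain ⟨y, rfl⟩ := Ideal.Quotient.mk_surjective y
      obtain ⟨n, c, hc⟩ := hgy g hg y
      refine ⟨n, c, ?_⟩
      show Ideal.Quotient.mk _ (ι c) = Ideal.Quotient.mk _ (ι (((1 : A') ⊗ₜ g) ^ n)) * Ideal.Quotient.mk _ y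
      rw [← map_mul, map_pow, hc]
    · rintro _ rfl
      exact ⟨1, 0, by rw [pow_one, hq1, map_zero, zero_mul]⟩
  let A₂ := Localization.Away a
  have ha1 : a - 1 ∈ I.map (algebraMap A A') := by
    rw [← haj, sub_add_cancel_left]
    exact neg_mem hj
  have hψa : ψ' a = 1 := by
    rw [← sub_eq_zero, ← map_one ψ', ← map_sub, ← RingHom.mem_ker, hψ']
    exact ha1
  have hau : IsUnit (ψ'.toRingHom a) := by
    show IsUnit (ψ' a)
    rw [hψa]
    exact isUnit_one
  let ψ₂ : A₂ →ₐ[A] A ⧸ I :=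
    { IsLocalization.Away.lift a hau with
      commutes' := fun r => by
        show IsLocalization.Away.lift a hau (algebraMap A A₂ r) = _
        rw [IsScalarTower.algebraMap_apply A A' A₂, IsLocalization.Away.lift_eq]
        exact ψ'.commutes r }
  have hψ₂ : ∀ r, ψ₂ (algebraMap A' A₂ r) = ψ' r := fun r => IsLocalization.Away.lift_eq a hau r
  have hA₂ : ∀ z : A₂, ∃ r : A, z - algebraMap A A₂ r ∈ I.map (algebraMap A A₂) := by
    intro z
    obtain ⟨N, r', hr'⟩ := IsLocalization.Away.surj a z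
    obtain ⟨r, hr⟩ := hA' r'
    refine ⟨r, ?_⟩
    have hmap : (I.map (algebraMap A A')).map (algebraMap A' A₂) = I.map (algebraMap A A₂) := by
      rw [Ideal.map_map, ← IsScalarTower.algebraMap_eq]
    have h1 : algebraMap A' A₂ (1 - a ^ N) ∈ I.map (algebraMap A A₂) := by
      rw [← hmap]
      refine Ideal.mem_map_of_mem _ ?_
      rw [← one_pow N]
      exact Ideal.mem_of_dvd _ (sub_dvd_pow_sub_pow 1 a N) (by simpa using neg_mem ha1)
    have h2 : algebraMap A' A₂ r' - algebraMap A A₂ r ∈ I.map (algebraMap A A₂) := by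
      rw [← hmap, IsScalarTower.algebraMap_apply A A' A₂, ← map_sub]
      exact Ideal.mem_map_of_mem _ hr
    have h3 := add_mem h2 (Ideal.mul_mem_left _ z h1)
    rw [← hr', map_sub, map_one, map_pow, mul_sub, mul_one, sub_add_sub_comm] at h3
    simpa [add_comm] using h3
  haveI : Algebra.Etale A' A₂ := Algebra.Etale.of_isLocalizationAway a
  haveI : Algebra.Etale A A₂ := Algebra.Etale.comp A A' A₂
  refine ⟨A₂, inferInstance, inferInstance, inferInstance, ψ₂, le_antisymm (fun z hz => ?_) ?_, ?_⟩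
  · obtain ⟨r, hr⟩ := hA₂ z
    have h0 : ψ₂ (z - algebraMap A A₂ r) = 0 := by
      have h1 : I.map (algebraMap A A₂) ≤ RingHom.ker ψ₂ := Ideal.map_le_iff_le_comap.2 fun i hi => by
        rw [Ideal.mem_comap, RingHom.mem_ker, AlgHom.commutes]
        exact Ideal.Quotient.eq_zero_iff_mem.2 hi
      exact RingHom.mem_ker.1 (h1 hr)
    rw [map_sub, RingHom.mem_ker.1 hz, zero_sub, neg_eq_zero, AlgHom.commutes] at h0
    simpa using add_mem hr (Ideal.mem_map_of_mem (algebraMap A A₂) (Ideal.Quotient.eq_zero_iff_mem.1 h0))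
  · exact Ideal.map_le_iff_le_comap.2 fun i hi => by
      rw [Ideal.mem_comap, RingHom.mem_ker, AlgHom.commutes]
      exact Ideal.Quotient.eq_zero_iff_mem.2 hi
  -- the map to `C`
  let τ : A' ⊗[A] E →ₐ[A] C :=
    Algebra.TensorProduct.lift (((Algebra.ofId (A ⧸ I) C).restrictScalars A).comp ψ') φ₀ fun _ _ => Commute.all _ _
  have hτI : ∀ x ∈ I.map (algebraMap A (A' ⊗[A] B)), τ (ι x) = 0 := by
    intro x hx
    have h1 : I.map (algebraMap A (A' ⊗[A] B)) ≤ RingHom.ker (τ.comp (ι.restrictScalars A)) :=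
      Ideal.map_le_iff_le_comap.2 fun i hi => by
        rw [Ideal.mem_comap, RingHom.mem_ker, AlgHom.commutes, IsScalarTower.algebraMap_apply A (A ⧸ I) C,
          Ideal.Quotient.algebraMap_eq, Ideal.Quotient.eq_zero_iff_mem.2 hi, map_zero]
    exact RingHom.mem_ker.1 (h1 hx)
  have hτe : τ (ι e) = 1 := by
    have h1 := hτI _ heb
    rw [map_sub, map_sub, sub_eq_zero] at h1
    rw [h1]
    simp [τ, ι, hφb]
  let τ' : Ē →ₐ[A] C := Ideal.Quotient.liftₐ _ τ fun x hx => by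
    obtain ⟨c, rfl⟩ := Ideal.mem_span_singleton'.1 hx
    rw [map_mul, map_sub, map_one, hτe, sub_self, mul_zero]
  letI : Algebra A' C := ((algebraMap (A ⧸ I) C).comp ψ'.toRingHom).toAlgebra
  haveI : IsScalarTower A A' C := IsScalarTower.of_algebraMap_eq (R := A) (S := A') (A := C) fun r => by
    show _ = algebraMap (A ⧸ I) C (ψ' (algebraMap A A' r))
    rw [AlgHom.commutes, ← IsScalarTower.algebraMap_apply]
  let f₁ : A₂ →ₐ[A'] C :=
    { (algebraMap (A ⧸ I) C).comp ψ₂.toRingHom with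
      commutes' := fun r => congrArg (algebraMap (A ⧸ I) C) (hψ₂ r) }
  let f₂ : Ē →ₐ[A'] C :=
    { τ'.toRingHom with
      commutes' := fun r => by
        show τ (r ⊗ₜ 1) = algebraMap (A ⧸ I) C (ψ' r)
        simp [τ] }
  let χ : A₂ ⊗[A'] Ē →ₐ[A'] C := Algebra.TensorProduct.lift f₁ f₂ fun _ _ => Commute.all _ _
  let θ : E →ₐ[A] A₂ ⊗[A'] Ē := ((Algebra.TensorProduct.includeRight : Ē →ₐ[A'] A₂ ⊗[A'] Ē).restrictScalars A).comp
    (((Ideal.Quotient.mkₐ A' _).restrictScalars A).comp (Algebra.TensorProduct.includeRight : E →ₐ[A] A' ⊗[A] E))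
  have hχθ : ∀ x, χ (θ x) = φ₀ x := fun x => by
    show χ ((1 : A₂) ⊗ₜ Ideal.Quotient.mk _ ((1 : A') ⊗ₜ x)) = φ₀ x
    rw [Algebra.TensorProduct.lift_tmul, map_one, one_mul]
    show τ ((1 : A') ⊗ₜ x) = φ₀ x
    simp [τ]
  letI : CommRing (A₂ ⊗[A'] Ē) := inferInstance
  let IB : Ideal (A₂ ⊗[A'] Ē) := Ideal.map (algebraMap A (A₂ ⊗[A'] Ē)) I
  have hA'B : ∀ r, algebraMap A' (A₂ ⊗[A'] Ē) r = algebraMap A₂ (A₂ ⊗[A'] Ē) (algebraMap A' A₂ r) :=
    fun r => IsScalarTower.algebraMap_apply A' A₂ _ r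
  have hθ : ∀ z, ∃ x, z - θ x ∈ IB := by
    have hstep : ∀ (y : A' ⊗[A] E), ∃ x,
        (1 : A₂) ⊗ₜ[A'] (Ideal.Quotient.mk (Ideal.span {1 - ι e}) y : Ē) - θ x ∈ IB := by
      intro y
      induction y using TensorProduct.induction_on with
      | zero => exact ⟨0, by simp⟩
      | tmul a' x =>
        obtain ⟨r, hr⟩ := hA' a'
        refine ⟨algebraMap A E r * x, ?_⟩
        have h1 : algebraMap A' (A₂ ⊗[A'] Ē) (a' - algebraMap A A' r) ∈ IB := by
          have := Ideal.mem_map_of_mem (algebraMap A' (A₂ ⊗[A'] Ē)) hr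
          rwa [Ideal.map_map, ← IsScalarTower.algebraMap_eq] at this
        have h2 : (1 : A₂) ⊗ₜ[A'] (Ideal.Quotient.mk (Ideal.span {1 - ι e}) (a' ⊗ₜ x) : Ē) =
            algebraMap A' (A₂ ⊗[A'] Ē) a' * θ x := by
          rw [← Algebra.smul_def]
          show _ = a' • ((1 : A₂) ⊗ₜ[A'] (Ideal.Quotient.mk _ ((1 : A') ⊗ₜ x) : Ē))
          rw [← TensorProduct.tmul_smul]
          congr 1
          rw [← Ideal.Quotient.mkₐ_eq_mk A', ← map_smul, TensorProduct.smul_tmul', smul_eq_mul, mul_one]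
        rw [h2, map_mul θ, AlgHom.commutes, IsScalarTower.algebraMap_apply A A' (A₂ ⊗[A'] Ē), ← sub_mul, ← map_sub]
        exact Ideal.mul_mem_right _ _ h1
      | add y y' hy hy' =>
        obtain ⟨x, hx⟩ := hy
        obtain ⟨x', hx'⟩ := hy'
        exact ⟨x + x', by rw [map_add, TensorProduct.tmul_add, map_add, add_sub_add_comm]; exact add_mem hx hx'⟩
    intro z
    induction z using TensorProduct.induction_on with
    | zero => exact ⟨0, by simp⟩
    | tmul w y =>
      obtain ⟨y, rfl⟩ := Ideal.Quotient.mk_surjective y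
      obtain ⟨x, hx⟩ := hstep y
      obtain ⟨r, hr⟩ := hA₂ w
      refine ⟨algebraMap A E r * x, ?_⟩
      have h1 : algebraMap A₂ (A₂ ⊗[A'] Ē) (w - algebraMap A A₂ r) ∈ IB := by
        have := Ideal.mem_map_of_mem (algebraMap A₂ (A₂ ⊗[A'] Ē)) hr
        rwa [Ideal.map_map, ← IsScalarTower.algebraMap_eq] at this
      have h2 : w ⊗ₜ[A'] (Ideal.Quotient.mk (Ideal.span {1 - ι e}) y : Ē) = algebraMap A₂ (A₂ ⊗[A'] Ē) w *
          ((1 : A₂) ⊗ₜ[A'] (Ideal.Quotient.mk (Ideal.span {1 - ι e}) y : Ē)) := by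
        rw [Algebra.TensorProduct.algebraMap_apply, Algebra.TensorProduct.tmul_mul_tmul]
        simp
      have h3 := add_mem (Ideal.mul_mem_right ((1 : A₂) ⊗ₜ[A'] (Ideal.Quotient.mk (Ideal.span {1 - ι e}) y : Ē)) _ h1)
        (Ideal.mul_mem_left _ (algebraMap A₂ (A₂ ⊗[A'] Ē) (algebraMap A A₂ r)) hx)
      rw [h2, map_mul θ, AlgHom.commutes, IsScalarTower.algebraMap_apply A A₂ (A₂ ⊗[A'] Ē)]
      convert h3 using 1
      rw [map_sub]
      ring
    | add y y' hy hy' =>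
      obtain ⟨x, hx⟩ := hy
      obtain ⟨x', hx'⟩ := hy'
      exact ⟨x + x', by rw [map_add, add_sub_add_comm]; exact add_mem hx hx'⟩
  have hIχ : ∀ z ∈ IB, χ z = 0 := fun z hz => by
    have h1 : IB ≤ RingHom.ker (χ.restrictScalars A) := Ideal.map_le_iff_le_comap.2 fun i hi => by
      rw [Ideal.mem_comap, RingHom.mem_ker, AlgHom.commutes, IsScalarTower.algebraMap_apply A (A ⧸ I) C,
        Ideal.Quotient.algebraMap_eq, Ideal.Quotient.eq_zero_iff_mem.2 hi, map_zero]
    exact RingHom.mem_ker.1 (h1 hz)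
  refine ⟨A₂ ⊗[A'] Ē, inferInstance, inferInstance, inferInstance, inferInstance, χ.restrictScalars A, ?_, inferInstance,
    fun c => ?_, le_antisymm (fun z hz => ?_) (fun z hz => RingHom.mem_ker.2 (hIχ z hz)), fun r => ?_⟩
  · -- finiteness
    refine Module.Finite.of_surjective (Algebra.TensorProduct.map (AlgHom.id A₂ A₂) q).toLinearMap fun z => ?_
    induction z using TensorProduct.induction_on with
    | zero => exact ⟨0, map_zero _⟩
    | tmul w y =>
      obtain ⟨M, d, hd⟩ := hCd y haQ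
      obtain ⟨v, hv⟩ := (IsLocalization.Away.algebraMap_isUnit (S := A₂) a).pow M
      refine ⟨(w * ((v⁻¹ : A₂ˣ) : A₂)) ⊗ₜ d, ?_⟩
      show Algebra.TensorProduct.map (AlgHom.id A₂ A₂) q ((w * ((v⁻¹ : A₂ˣ) : A₂)) ⊗ₜ[A'] d) = _
      rw [Algebra.TensorProduct.map_tmul, AlgHom.id_apply, hd, map_pow, AlgHom.commutes, ← map_pow, ← Algebra.smul_def,
        ← TensorProduct.smul_tmul, Algebra.smul_def, map_pow, ← hv, mul_comm, mul_assoc, Units.inv_mul, mul_one]
    | add y y' hy hy' =>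
      obtain ⟨x, hx⟩ := hy
      obtain ⟨x', hx'⟩ := hy'
      exact ⟨x + x', by rw [map_add, hx, hx']⟩
  · obtain ⟨x, rfl⟩ := hφ₀ c
    exact ⟨θ x, hχθ x⟩
  · obtain ⟨x, hx⟩ := hθ z
    have h1 : φ₀ x = 0 := by
      have h2 := hIχ _ hx
      rw [map_sub, hχθ, show χ z = 0 from hz, zero_sub, neg_eq_zero] at h2
      exact h2
    have h3 : θ x ∈ IB := by
      have := Ideal.mem_map_of_mem θ.toRingHom (hker.le (RingHom.mem_ker.2 h1))
      rwa [Ideal.map_map, AlgHom.toRingHom_eq_coe, AlgHom.comp_algebraMap] at this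
    simpa using add_mem hx h3
  · show χ (r ⊗ₜ (1 : Ē)) = _
    rw [Algebra.TensorProduct.lift_tmul, map_one, mul_one]
    rfl

end Groth.Agent.FinEtLiftH7
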